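import Cfsg.Agent.H6.Fi23.Pres
import Cfsg.Agent.H6.Fi23.Chk0
import Cfsg.Agent.H6.Fi23.Chk1
import Cfsg.Agent.H6.Fi23.Chk2
import Cfsg.Agent.H6.Fi23.Chk3
import Cfsg.Agent.H6.Fi23.Chk4
import Cfsg.Agent.H6.Fi23.Chk5

set_option autoImplicit false
set_option maxRecDepth 100000

namespace Cfsg.H6.Fi23

theorem ptOK : PtOK img 31671 LS EQS := ptOK_of_chk fun p h1 h2 => by
  rw [← ptU_eq]
  exact (range_join (range_join (range_join (range_join (range_join (allR_range p0 (by norm_num : 0 + 576 = 576)) (range_join (allR_range p1 (by norm_num : 576 + 576 = 1152)) (allR_range p2 (by norm_num : 1152 + 576 = 1728)))) (range_join (allR_range p3 (by norm_num : 1728 + 576 = 2304)) (range_join (allR_range p4 (by norm_num : 2304 + 576 = 2880)) (allR_range p5 (by norm_num : 2880 + 576 = 3456))))) (range_join (range_join (allR_range p6 (by norm_num : 3456 + 576 = 4032)) (range_join (allR_range p7 (by norm_num : 4032 + 576 = 4608)) (allR_range p8 (by norm_num : 4608 + 576 = 5184)))) (range_join (range_join (allR_range p9 (by norm_num : 5184 + 576 = 5760)) (allR_range p10 (by norm_num : 5760 + 576 = 6336))) (range_join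 (allR_range p11 (by norm_num : 6336 + 576 = 6912)) (allR_range p12 (by norm_num : 6912 + 576 = 7488)))))) (range_join (range_join (range_join (allR_range p13 (by norm_num : 7488 + 576 = 8064)) (range_join (allR_range p14 (by norm_num : 8064 + 576 = 8640)) (allR_range p15 (by norm_num : 8640 + 576 = 9216)))) (range_join (range_join (allR_range p16 (by norm_num : 9216 + 576 = 9792)) (allR_range p17 (by norm_num : 9792 + 576 = 10368))) (range_join (allR_range p18 (by norm_num : 10368 + 576 = 10944)) (allR_range p19 (by norm_num : 10944 + 576 = 11520))))) (range_join (range_join (allR_range p20 (by norm_num : 11520 + 576 = 12096)) (range_join (allR_range p21 (by norm_num : 12096 + 576 = 12672)) (allR_range p22 (by norm_num : 12672 + 576 = 13248)))) (range_join (range_join (allR_range p23 (by norm_num : 13248 + 576 = 13824)) (allR_range p24 (by norm_num : 13824 + 576 = 14400))) (range_join (allR_range p25 (by norm_num : 14400 + 576 = 14976)) (allR_range p26 (by norm_num : 14976 + 576 = 15552))))))) (range_join (range_join (range_join (range_join (allR_range p27 (by norm_num : 15552 + 576 = 16128))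 (range_join (allR_range p28 (by norm_num : 16128 + 576 = 16704)) (allR_range p29 (by norm_num : 16704 + 576 = 17280)))) (range_join (range_join (allR_range p30 (by norm_num : 17280 + 576 = 17856)) (allR_range p31 (by norm_num : 17856 + 576 = 18432))) (range_join (allR_range p32 (by norm_num : 18432 + 576 = 19008)) (allR_range p33 (by norm_num : 19008 + 576 = 19584))))) (range_join (range_join (allR_range p34 (by norm_num : 19584 + 576 = 20160)) (range_join (allR_range p35 (by norm_num : 20160 + 576 = 20736)) (allR_range p36 (by norm_num : 20736 + 576 = 21312)))) (range_join (range_join (allR_range p37 (by norm_num : 21312 + 576 = 21888)) (allR_range p38 (by norm_num : 21888 + 576 = 22464))) (range_join (allR_range p39 (by norm_num : 22464 + 576 = 23040)) (allR_range p40 (by norm_num : 23040 + 576 = 23616)))))) (range_join (range_join (range_join (allR_range p41 (by norm_num : 23616 + 576 = 24192)) (range_join (allR_range p42 (by norm_num : 24192 + 576 = 24768)) (allR_range p43 (by norm_num : 24768 + 576 = 25344)))) (range_join (range_join (allR_range p44 (by norm_num : 25344 + 576 = 25920))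 (allR_range p45 (by norm_num : 25920 + 576 = 26496))) (range_join (allR_range p46 (by norm_num : 26496 + 576 = 27072)) (allR_range p47 (by norm_num : 27072 + 576 = 27648))))) (range_join (range_join (allR_range p48 (by norm_num : 27648 + 576 = 28224)) (range_join (allR_range p49 (by norm_num : 28224 + 576 = 28800)) (allR_range p50 (by norm_num : 28800 + 576 = 29376)))) (range_join (range_join (allR_range p51 (by norm_num : 29376 + 576 = 29952)) (allR_range p52 (by norm_num : 29952 + 576 = 30528))) (range_join (allR_range p53 (by norm_num : 30528 + 576 = 31104)) (allR_range p54 (by norm_num : 31104 + 567 = 31671)))))))) p h1 h2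

theorem hrep : repOK 11 12131907574542231144628480 LS EQS D Fi23.R = true := by decide +kernel

theorem rep : Good (evR img 31671 11) 12131907574542231144628480 ∧ Rels (evR img 31671 11) Fi23.R ∧
    IsAct (MonoidHom.id _) (evR img 31671 11) img 31671 11 := rep_sound ptOK hrep

theorem iv0 {G : Type*} [Group G] {φ : G →* Equiv.Perm ℕ} {ev : ℕ → G} (h : IsAct φ ev img 31671 11) :
    orb φ (gen ev Ws) 1 = Set.Ico 1 3511 :=
  ivl_sound h (by decide +kernel) (allR_range q0_0 (by norm_num : 1 + 3510 = 3511))

theorem iv1 {G : Type*} [Group G] {φ : G →* Equiv.Perm ℕ} {ev : ℕ → G} (h : IsAct φ ev img 31671 11) :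
    orb φ (gen ev Ws) 3511 = Set.Ico 3511 31671 :=
  ivl_sound h (by decide +kernel) (range_join (range_join (allR_range q1_0 (by norm_num : 3511 + 8333 = 11844)) (allR_range q1_1 (by norm_num : 11844 + 8333 = 20177))) (range_join (allR_range q1_2 (by norm_num : 20177 + 8333 = 28510)) (allR_range q1_3 (by norm_num : 28510 + 3161 = 31671))))


end Cfsg.H6.Fi23
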